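import Cfsg.Agent.ODD.Sp2.Ring

/-!
# `Sp_{2n}(2)`: power maps, hermitian forms over the local ring (helper22, ODD)

`HF D V` : a hermitian form on the `R`-module `V` whose values `h v v` are polynomials in `y`;
`exists_blk` : there is a nondegenerate block `R v + R w` with vectors `v'`, `w'` whose Gram matrix is the image of
the Gram matrix of `v`, `w` under `ph`.
-/

set_option autoImplicit false

namespace Cfsg.Agent.ODD.Sp2

variable {F R : Type*} [Field F] [CommRing R] [Algebra F R]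

/-- the form -/
structure HF (D : RD F R) (V : Type*) [AddCommGroup V] [Module R V] where
  h : V → V → R
  add_l : ∀ a b c, h (a + b) c = h a c + h b c
  smul_l : ∀ (r : R) a b, h (r • a) b = r * h a b
  symm : ∀ a b, h b a = D.st (h a b)
  even : ∀ a, h a a ∈ D.P
  nd : ∀ a, (∀ b, h a b = 0) → a = 0

namespace HF

variable {D : RD F R} {V : Type*} [AddCommGroup V] [Module R V] (H : HF D V)

theorem add_r (a b c : V) : H.h a (b + c) = H.h a b + H.h a c := by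
  rw [H.symm (b + c) a, H.add_l, map_add, ← H.symm, ← H.symm]

theorem smul_r (r : R) (a b : V) : H.h a (r • b) = D.st r * H.h a b := by
  rw [H.symm (r • b) a, H.smul_l, map_mul, ← H.symm]

theorem zero_l (b : V) : H.h 0 b = 0 := by
  have := H.smul_l 0 0 b
  rwa [zero_smul, zero_mul] at this

theorem zero_r (a : V) : H.h a 0 = 0 := by rw [H.symm 0 a, H.zero_l, map_zero]

/-- a block -/
structure Blk (v w v' w' : V) : Prop where
  ne : v ≠ 0
  mv : ∃ α β : R, v' = α • v + β • w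
  mw : ∃ α β : R, w' = α • v + β • w
  vv : H.h v' v' = D.ph (H.h v v)
  vw : H.h v' w' = D.ph (H.h v w)
  ww : H.h w' w' = D.ph (H.h w w)
  nd : ∀ r s : R, H.h (r • v + s • w) v = 0 → H.h (r • v + s • w) w = 0 → r • v + s • w = 0

section

variable {m : ℕ} (hm : ∀ x : V, D.t ^ (m + 1) • x = 0)
include hm

theorem nd_one {η r : R} (hη : D.t ^ m * η ≠ 0) (hr : r * η = 0) (x : V) : r • x = 0 := by
  rcases D.val r (m + 1) with ⟨s, rfl⟩ | ⟨j, hj, ε, hε, rfl⟩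
  · rw [mul_smul, hm]
  · exfalso
    apply hη
    obtain ⟨d, rfl⟩ := Nat.exists_eq_add_of_le (Nat.lt_succ_iff.1 hj)
    have : ε * (D.t ^ (j + d) * η) = 0 := by linear_combination D.t ^ d * hr
    exact (hε.mul_right_eq_zero).1 this

omit hm in
theorem st_ne {η : R} (hη : D.t ^ m * η ≠ 0) : D.t ^ m * D.st η ≠ 0 := by
  intro h
  apply hη
  have h1 := congrArg D.st h
  rw [map_mul, map_pow, D.st_st, D.st_t, map_zero, mul_pow, mul_assoc] at h1
  exact ((D.u'_unit.pow m).mul_right_eq_zero).1 h1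

theorem nd_two {v w : V} {α β : R} (hη : D.t ^ m * H.h v w ≠ 0) (ha : H.h v v = H.h v w * α)
    (hb : H.h w w = D.st (H.h v w) * β) (hn : IsNilpotent (α * β)) (r s : R)
    (h1 : H.h (r • v + s • w) v = 0) (h2 : H.h (r • v + s • w) w = 0) : r • v + s • w = 0 := by
  rw [H.add_l, H.smul_l, H.smul_l] at h1 h2
  rw [H.symm v w, ha] at h1
  rw [hb] at h2
  have h3 : (1 - α * β) * (r * H.h v w) = 0 := by linear_combination h2 - β * h1
  have h4 : r * H.h v w = 0 := (hn.isUnit_one_sub.mul_right_eq_zero).1 h3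
  have h5 : s * D.st (H.h v w) = 0 := by linear_combination h1 - α * h4
  rw [nd_one hm hη h4, nd_one hm (st_ne hη) h5, add_zero]

/-- the blocks with one generator -/
theorem blk_one {v : V} (hv : D.t ^ m * H.h v v ≠ 0) : ∃ v', H.Blk v 0 v' 0 := by
  obtain ⟨e, he⟩ := D.exists_mu
  obtain ⟨n, hn⟩ := D.y_nil
  rcases D.P_val (H.even v) n with ⟨q, -, h⟩ | ⟨j, -, q, hq, hu, h⟩
  · exact absurd (by rw [h, hn, zero_mul, mul_zero]) hv
  obtain ⟨c, -, hc⟩ := D.exists_norm hq hu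
  refine ⟨(e ^ j * c) • v, ?_, ⟨e ^ j * c, 0, by simp⟩, ⟨0, 0, by simp⟩, ?_, ?_, ?_, fun r s h1 _ => ?_⟩
  · rintro rfl
    exact hv (by rw [H.zero_l, mul_zero])
  · rw [H.smul_l, H.smul_r, h, map_mul, map_mul, map_pow, map_pow, he.st, he.y, ← hc]
    ring
  · rw [H.zero_r, H.zero_r, map_zero]
  · rw [H.zero_r, map_zero]
  · rw [smul_zero, add_zero] at h1 ⊢
    rw [H.smul_l] at h1
    exact nd_one hm hv h1 v

omit hm in
/-- the two shapes of the generator `y ^ j τ` of the ideal of values -/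
structure Sh (D : RD F R) (τ σ κ : R) : Prop where
  t : τ * σ = D.t
  tr : D.st σ * τ + σ * D.st τ = D.y
  y : D.y = τ * κ
  nil : IsNilpotent κ
  ph : ∃ c, D.ph τ = τ * c

omit hm in
theorem sh_even : Sh D 1 D.t D.y :=
  ⟨one_mul _, by rw [map_one, mul_one, mul_one, add_comm, D.t_add_st], (one_mul _).symm, D.y_nil, 1, by simp⟩

omit hm in
theorem sh_odd : Sh D D.t 1 (D.st D.t) := by
  obtain ⟨e, he⟩ := D.exists_mu
  exact ⟨mul_one _, by rw [map_one, one_mul, one_mul, D.t_add_st], D.t_mul_st.symm, D.st_t_nil,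
    D.u ^ D.i * e, by rw [he.t, mul_assoc]⟩

theorem nd_sh {τ σ κ : R} (S : Sh D τ σ κ) {j : ℕ} {v w : V} {a b : R} (hη : D.t ^ m * (D.y ^ j * τ) ≠ 0)
    (hvw : H.h v w = D.y ^ j * τ) (ha : H.h v v = D.y ^ (j + 1) * a) (hb : H.h w w = D.y ^ (j + 1) * b) (r s : R)
    (h1 : H.h (r • v + s • w) v = 0) (h2 : H.h (r • v + s • w) w = 0) : r • v + s • w = 0 := by
  have hy : D.y = D.st τ * D.st κ := by rw [← map_mul, ← S.y, D.st_y]
  refine H.nd_two hm (α := κ * a) (β := D.st κ * b) (hvw ▸ hη) ?_ ?_ ?_ r s h1 h2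
  · rw [ha, hvw]
    linear_combination D.y ^ j * a * S.y
  · rw [hb, hvw, map_mul, map_pow, D.st_y]
    linear_combination D.y ^ j * b * hy
  · rw [mul_assoc]
    exact (Commute.all _ _).isNilpotent_mul_right S.nil

/-- the hyperbolic blocks -/
theorem blk_hyp {τ σ κ : R} (S : Sh D τ σ κ) {j : ℕ} {v w : V} {b : R} (hη : D.t ^ m * (D.y ^ j * τ) ≠ 0)
    (hvw : H.h v w = D.y ^ j * τ) (ha : H.h v v = 0) (hb : H.h w w = D.y ^ (j + 1) * b) (hb' : D.st b = b) :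
    ∃ v' w', H.Blk v w v' w' := by
  obtain ⟨e, he⟩ := D.exists_mu
  obtain ⟨c, hc⟩ := S.ph
  obtain ⟨ρ, hρ⟩ : ∃ ρ, ρ = e ^ (2 * j + 2) * D.ph b + b := ⟨_, rfl⟩
  have hρ' : D.st ρ = ρ := by rw [hρ, map_add, map_mul, map_pow, he.st, D.sym_ph hb', hb']
  refine ⟨(e ^ (2 * j) * c) • v, (σ * ρ) • v + w, ?_, ⟨e ^ (2 * j) * c, 0, by rw [zero_smul, add_zero]⟩,
    ⟨σ * ρ, 1, by rw [one_smul]⟩, ?_, ?_, ?_, H.nd_sh hm S hη hvw (a := 0) (by rw [ha, mul_zero]) hb⟩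
  · rintro rfl
    exact hη (by rw [← hvw, H.zero_l, mul_zero])
  · rw [H.smul_l, H.smul_r, ha, map_zero, mul_zero, mul_zero]
  · rw [H.smul_l, H.add_r, H.smul_r, ha, hvw, map_mul, map_mul, map_pow, he.y, hc]
    ring
  · rw [H.add_l, H.add_r, H.add_r, H.smul_l, H.smul_l, H.smul_r, H.smul_r, H.symm v w, ha, hvw, hb]
    simp only [map_mul, map_pow, hρ', D.st_y, he.y]
    have h1 : D.st τ * D.st σ = D.st D.t := by rw [← map_mul, S.t]
    linear_combination D.y ^ j * ρ * S.t + D.y ^ j * ρ * h1 + D.y ^ j * ρ * D.t_add_st + D.y ^ (j + 1) * hρ +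
      D.y ^ (j + 1) * b * D.two

/-- the blocks with an isotropic generator -/
theorem blk_iso {τ σ κ : R} (S : Sh D τ σ κ) {j : ℕ} {v w : V} {a b : R} (hη : D.t ^ m * (D.y ^ j * τ) ≠ 0)
    (hvw : H.h v w = D.y ^ j * τ) (ha : H.h v v = D.y ^ (j + 1) * a) (hb : H.h w w = D.y ^ (j + 1) * b)
    (ha' : D.st a = a) (hb' : D.st b = b) (hn : IsNilpotent (a * (σ * D.st σ * b))) :
    ∃ v w v' w', H.Blk v w v' w' := by
  obtain ⟨μ, hμ, h⟩ := as_lemma D.two D.Sy (α := a) (β := σ * D.st σ * b) ha'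
    (D.mem_Sy.2 (by rw [map_mul, map_mul, D.st_st, hb', mul_comm (D.st σ)])) hn
  have hμ' : D.st μ = μ := hμ
  have hu : IsUnit (1 + κ * (μ * σ * b)) := ((Commute.all _ _).isNilpotent_mul_right S.nil).isUnit_one_add
  obtain ⟨ε, hε⟩ := hu.exists_right_inv
  have h1 : H.h (v + (μ * σ) • w) (v + (μ * σ) • w) = 0 := by
    rw [H.add_l, H.add_r, H.add_r, H.smul_l, H.smul_l, H.smul_r, H.smul_r, H.symm v w, ha, hvw, hb]
    simp only [map_mul, map_pow, hμ', D.st_y]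
    linear_combination D.y ^ j * μ * S.tr + D.y ^ (j + 1) * h + D.y ^ (j + 1) * a * D.two
  refine ⟨ε • (v + (μ * σ) • w), w, H.blk_hyp hm S hη ?_ ?_ hb hb'⟩
  · rw [H.smul_l, H.add_l, H.smul_l, hvw, hb]
    linear_combination D.y ^ j * τ * hε + ε * μ * σ * D.y ^ j * b * S.y
  · rw [H.smul_l, H.smul_r, h1, mul_zero, mul_zero]

/-- the anisotropic blocks with two generators -/
theorem blk_ani {j : ℕ} {v w : V} {a b : R} (hη : D.t ^ m * (D.y ^ j * D.t) ≠ 0)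
    (hvw : H.h v w = D.y ^ j * D.t) (ha : H.h v v = D.y ^ (j + 1) * a) (hb : H.h w w = D.y ^ (j + 1) * b)
    (ha' : a ∈ D.P) (hb' : b ∈ D.P) (hu : IsUnit a) : ∃ v' w', H.Blk v w v' w' := by
  obtain ⟨e, he⟩ := D.exists_mu
  obtain ⟨c, hc, hn⟩ := D.exists_norm ha' hu
  obtain ⟨c', hc'⟩ := hc.exists_right_inv
  obtain ⟨a', haa⟩ := hu.exists_right_inv
  have sa := D.P_sym ha'
  have sb := D.P_sym hb'
  have sa' := D.sym_inv sa haa
  obtain ⟨ρ, -, hρ, hρ'⟩ := D.P_ph (D.P.mul_mem ha' hb')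
  have hd : IsUnit (1 + D.y * (a * b)) := ((Commute.all _ _).isNilpotent_mul_right D.y_nil).isUnit_one_add
  obtain ⟨d, hd'⟩ := hd.exists_right_inv
  have sd : D.st d = d := D.sym_inv (by rw [map_add, map_one, map_mul, map_mul, D.st_y, sa, sb]) hd'
  have sab : D.st (D.ph (a * b)) = D.ph (a * b) := D.sym_ph (by rw [map_mul, sa, sb])
  have hnil : IsNilpotent ((e ^ 2 * D.ph (a * b) + a * b) * d * 1) := by
    have : (e ^ 2 * D.ph (a * b) + a * b) * d * 1 = (e ^ 2 + 1) * (a * b * d) + ρ * (e ^ 2 * D.y * d) := by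
      rw [hρ']; ring
    rw [this]
    exact (Commute.all _ _).isNilpotent_add ((Commute.all _ _).isNilpotent_mul_right he.nil)
      ((Commute.all _ _).isNilpotent_mul_right hρ)
  obtain ⟨ν, hν, h⟩ := as_lemma D.two D.Sy (α := (e ^ 2 * D.ph (a * b) + a * b) * d) (β := 1)
    (D.mem_Sy.2 (by rw [map_mul, map_add, map_mul, map_pow, he.st, sab, map_mul D.st, sa, sb, sd])) D.Sy.one_mem hnil
  have sν : D.st ν = ν := hν
  have h' : (ν + ν ^ 2) * (1 + D.y * (a * b)) = e ^ 2 * (D.ph a * D.ph b) + a * b := by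
    rw [map_mul] at h
    linear_combination (1 + D.y * (a * b)) * h + (e ^ 2 * (D.ph a * D.ph b) + a * b) * hd'
  -- `κ` with `st κ = c' e ^ j u ^ i`
  obtain ⟨κ, hκ⟩ : ∃ κ, κ = D.st c' * e ^ j * D.u' ^ D.i := ⟨_, rfl⟩
  have sκ : D.st κ = c' * e ^ j * D.u ^ D.i := by
    rw [hκ, map_mul, map_mul, map_pow, map_pow, D.st_st, he.st, D.st_u']
  have hui : D.u ^ D.i * D.u' ^ D.i = 1 := by rw [← mul_pow, D.uu, one_pow]
  have hcs : D.st c * D.st c' = 1 := by rw [← map_mul, hc', map_one]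
  have hN : κ * D.st κ * D.ph a = e ^ (2 * j) * a := by
    rw [sκ, hκ, ← hn]
    linear_combination (e ^ (2 * j) * a * (c * c') * (D.st c * D.st c')) * hui +
      (e ^ (2 * j) * a * (D.st c * D.st c')) * hc' + (e ^ (2 * j) * a) * hcs
  refine ⟨(e ^ (j + 1) * c) • v, (κ * ν * a') • v + (κ * (1 + ν * D.t)) • w, ?_,
    ⟨e ^ (j + 1) * c, 0, by rw [zero_smul, add_zero]⟩, ⟨_, _, rfl⟩, ?_, ?_, ?_, H.nd_sh hm sh_odd hη hvw ha hb⟩
  · rintro rfl
    exact hη (by rw [← hvw, H.zero_l, mul_zero])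
  · rw [H.smul_l, H.smul_r, ha]
    simp only [map_mul, map_pow, he.st, he.y, ← hn]
    ring
  · rw [H.smul_l, H.add_r, H.smul_r, H.smul_r, ha, hvw]
    simp only [map_mul, map_add, map_one, map_pow, sν, sa', sκ, he.y, he.t]
    linear_combination (e ^ (2 * j + 1) * D.u ^ D.i * D.y ^ j * D.t) * hc' +
      (e ^ (2 * j + 1) * c * c' * D.u ^ D.i * D.y ^ (j + 1) * ν) * haa +
      (e ^ (2 * j + 1) * c * c' * D.u ^ D.i * D.y ^ j * ν) * D.t_mul_st +
      (e ^ (2 * j + 1) * c * c' * D.u ^ D.i * D.y ^ (j + 1) * ν) * D.two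
  · have h1 : H.h ((κ * ν * a') • v + (κ * (1 + ν * D.t)) • w) ((κ * ν * a') • v + (κ * (1 + ν * D.t)) • w) =
        D.y ^ (j + 1) * (κ * D.st κ) * (a' * (a * b + (ν + ν ^ 2) * (1 + D.y * (a * b)))) := by
      rw [H.add_l, H.add_r, H.add_r, H.smul_l, H.smul_l, H.smul_l, H.smul_l, H.smul_r, H.smul_r, H.smul_r, H.smul_r,
        H.symm v w, ha, hvw, hb]
      have h2 := D.norm_one sν
      simp only [map_mul, map_add, map_one, map_pow, sν, sa', D.st_y] at h2 ⊢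
      linear_combination (D.y ^ (j + 1) * κ * D.st κ * b) * h2 +
        (D.y ^ j * κ * D.st κ * ν * a') * D.t_add_st + (2 * D.y ^ j * κ * D.st κ * ν ^ 2 * a') * D.t_mul_st +
        (D.y ^ (j + 1) * κ * D.st κ * (ν ^ 2 * a' - b - (ν + ν ^ 2) * D.y * b)) * haa +
        (D.y ^ (j + 1) * κ * D.st κ * ν ^ 2 * a') * D.two
    rw [h1, h', hb, map_mul, map_pow, he.y]
    linear_combination (D.y ^ (j + 1) * a' * e ^ 2 * D.ph b) * hN + (D.y ^ (j + 1) * e ^ (2 * j + 2) * D.ph b) * haa +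
      (D.y ^ (j + 1) * κ * D.st κ * a' * a * b) * D.two

theorem exists_blk_aux {v₀ w : V} (h0 : D.t ^ m * H.h v₀ w ≠ 0) : ∃ v w v' w', H.Blk v w v' w' := by
  by_cases hA : ∃ v, D.t ^ m * H.h v v ≠ 0
  · obtain ⟨v, hv⟩ := hA
    obtain ⟨v', h⟩ := H.blk_one hm hv
    exact ⟨_, _, _, _, h⟩
  push Not at hA
  obtain ⟨n, ε, hε, h1⟩ := D.val' (r := H.h v₀ w) (fun h => h0 (by rw [h, mul_zero]))
  -- normal form of the generator
  have key : ∀ (j : ℕ) (τ : R), D.t ^ n = D.t ^ (2 * j) * τ → ∃ v, ∃ a ∈ D.P, ∃ b ∈ D.P,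
      D.t ^ m * (D.y ^ j * τ) ≠ 0 ∧ H.h v w = D.y ^ j * τ ∧ H.h v v = D.y ^ (j + 1) * a ∧
        H.h w w = D.y ^ (j + 1) * b := by
    intro j τ h2
    obtain ⟨ε', hε'⟩ := ((D.u_unit.pow j).mul hε).exists_right_inv
    have h3 : H.h v₀ w = D.y ^ j * τ * (D.u ^ j * ε) := by
      rw [h1, h2, pow_mul, D.t_sq]; ring
    have h4 : D.t ^ m * (D.y ^ j * τ) ≠ 0 := fun h => h0 (by rw [h3, ← mul_assoc, h, zero_mul])
    have h5 : ∀ x, ∃ a ∈ D.P, H.h x x = D.y ^ (j + 1) * a := by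
      intro x
      rcases D.P_val (H.even x) (j + 1) with h | ⟨i, hi, q, -, hq, h⟩
      · exact h
      · exfalso
        apply h4
        obtain ⟨d, rfl⟩ := Nat.exists_eq_add_of_le (Nat.lt_succ_iff.1 hi)
        have h6 := hA x
        rw [h] at h6
        have : q * (D.t ^ m * (D.y ^ (i + d) * τ)) = 0 := by linear_combination D.y ^ d * τ * h6
        exact (hq.mul_right_eq_zero).1 this
    obtain ⟨a, ha, ha'⟩ := h5 (ε' • v₀)
    obtain ⟨b, hb, hb'⟩ := h5 w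
    refine ⟨ε' • v₀, a, ha, b, hb, h4, ?_, ha', hb'⟩
    rw [H.smul_l, h3]
    linear_combination D.y ^ j * τ * hε'
  rcases Nat.even_or_odd' n with ⟨j, rfl | rfl⟩
  · obtain ⟨v, a, ha, b, hb, h2, h3, h4, h5⟩ := key j 1 (mul_one _).symm
    refine H.blk_iso hm sh_even h2 h3 h4 h5 (D.P_sym ha) (D.P_sym hb) ?_
    rw [mul_comm, mul_assoc, mul_assoc]
    exact D.nil_mul _
  · obtain ⟨v, a, ha, b, hb, h2, h3, h4, h5⟩ := key j D.t (pow_succ _ _)
    rcases D.unit_or_nil a with hu | hu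
    · obtain ⟨v', w', h⟩ := H.blk_ani hm h2 h3 h4 h5 ha hb hu
      exact ⟨_, _, _, _, h⟩
    · exact H.blk_iso hm sh_odd h2 h3 h4 h5 (D.P_sym ha) (D.P_sym hb)
        ((Commute.all _ _).isNilpotent_mul_right hu)

end

/-- **blocks exist** -/
theorem exists_blk [Nontrivial V] : ∃ v w v' w', H.Blk v w v' w' := by
  classical
  have hex : ∃ n, ∀ x : V, D.t ^ n • x = 0 := by
    obtain ⟨n, hn⟩ := D.t_nil
    exact ⟨n, fun x => by rw [hn, zero_smul]⟩
  have h0 : Nat.find hex ≠ 0 := by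
    intro h
    obtain ⟨x, hx⟩ := exists_ne (0 : V)
    have := Nat.find_spec hex x
    rw [h, pow_zero, one_smul] at this
    exact hx this
  obtain ⟨m, hm⟩ := Nat.exists_eq_succ_of_ne_zero h0
  have h1 : ∀ x : V, D.t ^ (m + 1) • x = 0 := fun x => by
    have := Nat.find_spec hex x
    rwa [hm] at this
  have h2 : ¬ ∀ x : V, D.t ^ m • x = 0 := Nat.find_min hex (by omega)
  push Not at h2
  obtain ⟨v, hv⟩ := h2
  have h3 : ¬ ∀ w, H.h (D.t ^ m • v) w = 0 := fun h => hv (H.nd _ h)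
  push Not at h3
  obtain ⟨w, hw⟩ := h3
  rw [H.smul_l] at hw
  exact H.exists_blk_aux h1 hw

end HF

end Cfsg.Agent.ODD.Sp2
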