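import Cfsg.Agent.ODD.Sp2.Form

/-!
# `Sp_{2n}(2)`: power maps, linear algebra (helper22, ODD)

`Sp B g` : `g` is an isometry of the nondegenerate symmetric alternating form `B`; `Good B g g'` : an isometry
intertwines `g` and `g'`; `glue` : orthogonal decompositions; `gram` : the isometry of a block.
-/

set_option autoImplicit false

namespace Cfsg.Agent.ODD.Sp2

open Module

variable {F : Type*} [Field F] {V : Type*} [AddCommGroup V] [Module F V]

/-- an isometry of a nondegenerate alternating form in characteristic two -/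
structure Sp (B : LinearMap.BilinForm F V) (g : Module.End F V) : Prop where
  two : (2 : F) = 0
  alt : ∀ x, B x x = 0
  nd : ∀ x, (∀ y, B x y = 0) → x = 0
  iso : ∀ x y, B (g x) (g y) = B x y

/-- an isometry intertwines `g` and `g'` -/
def Good (B : LinearMap.BilinForm F V) (g g' : Module.End F V) : Prop :=
  ∃ θ : Module.End F V, (∀ x y, B (θ x) (θ y) = B x y) ∧ ∀ x, θ (g x) = g' (θ x)

/-- the same on a subspace -/
def GoodOn (B : LinearMap.BilinForm F V) (g g' : Module.End F V) (W : Submodule F V) : Prop :=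
  ∃ θ : W →ₗ[F] V, (∀ x, θ x ∈ W) ∧ (∀ x y, B (θ x) (θ y) = B x y) ∧
    ∀ (x : W) (hx : g x ∈ W), θ ⟨g x, hx⟩ = g' (θ x)

/-- a nondegenerate invariant subspace -/
structure Sub (B : LinearMap.BilinForm F V) (g : Module.End F V) (W : Submodule F V) : Prop where
  inv : ∀ x ∈ W, g x ∈ W
  nd : ∀ x ∈ W, (∀ y ∈ W, B x y = 0) → x = 0

variable {B : LinearMap.BilinForm F V} {g : Module.End F V}

theorem Sp.symm (h : Sp B g) (x y : V) : B x y = B y x := by
  have h1 := h.alt (x + y)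
  simp only [map_add, LinearMap.add_apply, h.alt] at h1
  linear_combination h1 - B y x * h.two

theorem Sp.iso_pow (h : Sp B g) (n : ℕ) (x y : V) : B ((g ^ n) x) ((g ^ n) y) = B x y := by
  induction n with
  | zero => simp
  | succ n ih => rw [pow_succ', Module.End.mul_apply, Module.End.mul_apply, h.iso, ih]

theorem Sp.pow (h : Sp B g) (n : ℕ) : Sp B (g ^ n) := ⟨h.two, h.alt, h.nd, h.iso_pow n⟩

theorem Sp.nondeg (h : Sp B g) : B.Nondegenerate :=
  ⟨h.nd, fun y hy => h.nd y fun x => (h.symm y x).trans (hy x)⟩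

theorem Sp.restrict (h : Sp B g) {W : Submodule F V} (hW : Sub B g W) : Sp (B.restrict W) (g.restrict hW.inv) :=
  ⟨h.two, fun x => h.alt x, fun x hx => Subtype.ext (hW.nd x x.2 fun y hy => hx ⟨y, hy⟩), fun x y => h.iso x y⟩

theorem restrict_pow_eq_one {W : Submodule F V} (hW : ∀ x ∈ W, g x ∈ W) {n : ℕ} (h : g ^ n = 1) :
    g.restrict hW ^ n = 1 := by
  rw [Module.End.pow_restrict]
  ext x
  simp [h]

theorem Good.on {W : Submodule F V} (hW : ∀ x ∈ W, g x ∈ W) {k : ℕ}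
    (h : Good (B.restrict W) (g.restrict hW) (g.restrict hW ^ k)) : GoodOn B g (g ^ k) W := by
  obtain ⟨θ, h1, h2⟩ := h
  refine ⟨W.subtype ∘ₗ θ, fun x => (θ x).2, fun x y => h1 x y, fun x hx => ?_⟩
  have h3 := congrArg Subtype.val (h2 x)
  rw [Module.End.pow_restrict] at h3
  exact h3

section

variable [FiniteDimensional F V]

theorem Sub.isCompl (h : Sp B g) {W : Submodule F V} (hW : Sub B g W) : IsCompl W (B.orthogonal W) :=
  LinearMap.BilinForm.isCompl_orthogonal_of_restrict_nondegenerate (fun x y hxy => (h.symm y x).trans hxy)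
    (h.restrict hW).nondeg

theorem Sub.orth (h : Sp B g) {n : ℕ} (hn : g ^ (n + 1) = 1) {W : Submodule F V} (hW : Sub B g W) :
    Sub B g (B.orthogonal W) := by
  refine ⟨fun y hy x hx => ?_, fun y hy h1 => h.nd y fun z => ?_⟩
  · have h1 : x = g ((g ^ n) x) := by rw [← Module.End.mul_apply, ← pow_succ', hn, Module.End.one_apply]
    rw [h1, h.iso]
    exact hy _ (Module.End.pow_apply_mem_of_forall_mem n hW.inv x hx)
  · obtain ⟨a, b, rfl, -⟩ := Submodule.existsUnique_add_of_isCompl (hW.isCompl h) z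
    rw [map_add, h1 b b.2, h.symm, hy a a.2, add_zero]

theorem glue (h : Sp B g) {n : ℕ} (hn : g ^ (n + 1) = 1) {W : Submodule F V} (hW : Sub B g W)
    {g' : Module.End F V} (h1 : GoodOn B g g' W) (h2 : GoodOn B g g' (B.orthogonal W)) : Good B g g' := by
  obtain ⟨θ₁, a1, a2, a3⟩ := h1
  obtain ⟨θ₂, b1, b2, b3⟩ := h2
  have hc := hW.isCompl h
  have hW' := hW.orth h hn
  refine ⟨LinearMap.ofIsCompl hc θ₁ θ₂, fun x y => ?_, fun x => ?_⟩
  · obtain ⟨a, b, rfl, -⟩ := Submodule.existsUnique_add_of_isCompl hc x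
    obtain ⟨c, d, rfl, -⟩ := Submodule.existsUnique_add_of_isCompl hc y
    simp only [map_add, LinearMap.add_apply, LinearMap.ofIsCompl_apply_left, LinearMap.ofIsCompl_apply_right, a2, b2]
    rw [h.symm (θ₂ b), b1 b _ (a1 c), b1 d _ (a1 a), h.symm b c, b.2 _ c.2, d.2 _ a.2]
  · obtain ⟨a, b, rfl, -⟩ := Submodule.existsUnique_add_of_isCompl hc x
    rw [map_add, map_add, map_add, map_add, LinearMap.ofIsCompl_apply_left, LinearMap.ofIsCompl_apply_right,
      ← a3 a (hW.inv _ a.2), ← b3 b (hW'.inv _ b.2), ← LinearMap.ofIsCompl_apply_left hc (ψ := θ₂),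
      ← LinearMap.ofIsCompl_apply_right hc (φ := θ₁)]

end

theorem exists_factor {A V' : Type*} [AddCommGroup A] [Module F A] [AddCommGroup V'] [Module F V']
    (π : A →ₗ[F] V) (π' : A →ₗ[F] V') (h : ∀ a, π a = 0 → π' a = 0) :
    ∃ θ : LinearMap.range π →ₗ[F] V', ∀ (x : LinearMap.range π) a, π a = x → θ x = π' a := by
  refine ⟨(LinearMap.ker π).liftQ π' h ∘ₗ π.quotKerEquivRange.symm.toLinearMap, fun x a ha => ?_⟩
  have h1 : x = π.quotKerEquivRange (Submodule.Quotient.mk a) := Subtype.ext ha.symm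
  rw [h1, LinearMap.comp_apply, LinearEquiv.coe_coe, LinearEquiv.symm_apply_apply]
  rfl

section Gram

variable {R : Type*} [CommRing R] [Algebra F R] [Module R V] [IsScalarTower F R V] {D : RD F R} (H : HF D V)

/-- the twisted parametrisation of a block -/
def par (φ : R →ₐ[F] R) (v w : V) : R × R →ₗ[F] V where
  toFun p := φ p.1 • v + φ p.2 • w
  map_add' p q := by
    simp only [Prod.fst_add, Prod.snd_add, map_add, add_smul]
    abel
  map_smul' c p := by simp only [Prod.smul_fst, Prod.smul_snd, map_smul, smul_assoc, smul_add, RingHom.id_apply]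

theorem par_apply (φ : R →ₐ[F] R) (v w : V) (p : R × R) : par φ v w p = φ p.1 • v + φ p.2 • w := rfl

theorem par_id (v w : V) (p : R × R) : par (AlgHom.id F R) v w p = p.1 • v + p.2 • w := rfl

omit [Module F V] [IsScalarTower F R V] in
theorem HF.h_comb (x v w : V) (r s : R) : H.h x (r • v + s • w) = D.st r * H.h x v + D.st s * H.h x w := by
  rw [H.add_r, H.smul_r, H.smul_r]

theorem HF.Blk.gram {H : HF D V} {v w v' w' : V} (h : H.Blk v w v' w') (p q : R × R) :
    H.h (par D.ph v' w' p) (par D.ph v' w' q) =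
      D.ph (H.h (par (AlgHom.id F R) v w p) (par (AlgHom.id F R) v w q)) := by
  have h1 : H.h w' v' = D.ph (H.h w v) := by rw [H.symm v' w', H.symm v w, h.vw, D.ph_st]
  simp only [par_apply, AlgHom.id_apply, H.h_comb, H.add_l, H.smul_l, h.vv, h.vw, h.ww, h1, map_add, map_mul, D.ph_st]

/-- **the Gram lemma** -/
theorem gram [FiniteDimensional F V] {v w v' w' : V} (h : H.Blk v w v' w') (l : R →ₗ[F] F)
    (hl : ∀ a, (∀ r, l (r * a) = 0) → a = 0) (hlp : ∀ a, l (D.ph a) = l a) (hB : ∀ x y, B x y = l (H.h x y))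
    (hg : ∀ x, g x = D.u • x) : ∃ W : Submodule F V, W ≠ ⊥ ∧ Sub B g W ∧ GoodOn B g (g ^ (2 * D.i + 1)) W := by
  obtain ⟨π, hπ⟩ : ∃ π, π = par (AlgHom.id F R) v w := ⟨_, rfl⟩
  obtain ⟨π', hπ'⟩ : ∃ π', π' = par D.ph v' w' := ⟨_, rfl⟩
  have e1 : ∀ p, π p = p.1 • v + p.2 • w := fun p => by rw [hπ, par_id]
  have e2 : ∀ p, π' p = D.ph p.1 • v' + D.ph p.2 • w' := fun p => by rw [hπ', par_apply]
  have hgr : ∀ p q, H.h (π' p) (π' q) = D.ph (H.h (π p) (π q)) := fun p q => by rw [hπ, hπ', h.gram]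
  have hv : π (1, 0) = v := by simp [e1]
  have hw : π (0, 1) = w := by simp [e1]
  have hnd : ∀ p, (∀ q, H.h (π p) (π q) = 0) → π p = 0 := fun p hp => by
    have h1 := hp (1, 0)
    have h2 := hp (0, 1)
    rw [hv] at h1
    rw [hw] at h2
    rw [e1] at h1 h2 ⊢
    exact h.nd _ _ h1 h2
  have hle : LinearMap.range π' ≤ LinearMap.range π := by
    rintro _ ⟨p, rfl⟩
    obtain ⟨α, β, h1⟩ := h.mv
    obtain ⟨γ, δ, h2⟩ := h.mw
    refine ⟨(D.ph p.1 * α + D.ph p.2 * γ, D.ph p.1 * β + D.ph p.2 * δ), ?_⟩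
    rw [e1, e2, h1, h2]
    module
  have k1 : ∀ p, π' p = 0 → π p = 0 := fun p hp => hnd p fun q => D.ph_inj (by
    rw [← hgr, hp, H.zero_l, map_zero])
  have heq : LinearMap.range π' = LinearMap.range π := by
    obtain ⟨ψ, hψ⟩ := exists_factor π' π k1
    refine Submodule.eq_of_le_of_finrank_le hle ?_
    refine le_trans (Submodule.finrank_mono ?_) ψ.finrank_range_le
    rintro _ ⟨p, rfl⟩
    exact ⟨⟨π' p, p, rfl⟩, hψ _ p rfl⟩
  have k2 : ∀ p, π p = 0 → π' p = 0 := fun p hp => by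
    obtain ⟨p', hp'⟩ := hle ⟨p, rfl⟩
    rw [← hp']
    refine hnd p' fun q => ?_
    obtain ⟨q', hq'⟩ := heq.ge ⟨q, rfl⟩
    rw [hp', ← hq', hgr, hp, H.zero_l, map_zero]
  have hgp : ∀ p, g (π p) = π (D.u * p.1, D.u * p.2) := fun p => by
    rw [hg, e1, e1, smul_add, mul_smul, mul_smul]
  have hpow : ∀ (n : ℕ) x, (g ^ n) x = D.u ^ n • x := by
    intro n
    induction n with
    | zero => simp
    | succ n ih => intro x; rw [pow_succ', Module.End.mul_apply, ih, hg, pow_succ', mul_smul]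
  obtain ⟨θ, hθ⟩ := exists_factor π π' k2
  refine ⟨LinearMap.range π, fun h0 => h.ne ?_, ⟨?_, ?_⟩, θ, ?_, ?_, ?_⟩
  · have : v ∈ LinearMap.range π := ⟨_, hv⟩
    rwa [h0, Submodule.mem_bot] at this
  · rintro _ ⟨p, rfl⟩
    exact ⟨_, (hgp p).symm⟩
  · rintro _ ⟨p, rfl⟩ hp
    refine hnd p fun q => hl _ fun r => ?_
    have h1 := hp (π (D.st r * q.1, D.st r * q.2)) ⟨_, rfl⟩
    have h2 : π (D.st r * q.1, D.st r * q.2) = D.st r • π q := by rw [e1, e1, smul_add, mul_smul, mul_smul]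
    rwa [hB, h2, H.smul_r, D.st_st] at h1
  · intro x
    obtain ⟨p, hp⟩ := x.2
    rw [hθ x p hp]
    exact hle ⟨p, rfl⟩
  · intro x y
    obtain ⟨p, hp⟩ := x.2
    obtain ⟨q, hq⟩ := y.2
    rw [hθ x p hp, hθ y q hq, ← hp, ← hq, hB, hB, hgr, hlp]
  · intro x hx
    obtain ⟨p, hp⟩ := x.2
    rw [hθ x p hp, hθ ⟨g x, hx⟩ (D.u * p.1, D.u * p.2) (by rw [← hgp, hp]), hpow, e2, e2, map_mul, map_mul, D.ph_u,
      smul_add, mul_smul, mul_smul]

end Gram

end Cfsg.Agent.ODD.Sp2
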