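import Mathlib

/-!
# `Sp_{2n}(2)`: power maps, the local ring (helper22, ODD)

`RD F R` : a commutative algebra `R` of characteristic two generated by a unipotent unit `u`, with the involution
`st : u ↦ u⁻¹` and the endomorphism `ph : u ↦ u ^ (2 i + 1)`; `t = 1 + u`, `y = u + u⁻¹`, `P = F[y]`.
-/

set_option autoImplicit false

namespace Cfsg.Agent.ODD.Sp2

/-- The Artin-Schreier equation `μ + μ ^ 2 β = α` for nilpotent `α β`. -/
theorem as_lemma {S : Type*} [CommRing S] (h2 : (2 : S) = 0) (T : Subring S) {α β : S} (hα : α ∈ T) (hβ : β ∈ T)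
    (hn : IsNilpotent (α * β)) : ∃ μ ∈ T, μ + μ ^ 2 * β = α := by
  have key : ∀ n : ℕ, ∃ μ ∈ T, ∃ i, n ≤ i ∧ μ + μ ^ 2 * β = α + α * (α * β) ^ i := by
    intro n
    induction n with
    | zero => exact ⟨0, T.zero_mem, 0, le_rfl, by linear_combination (-α) * h2⟩
    | succ n ih =>
      obtain ⟨μ, hμ, i, hi, h⟩ := ih
      refine ⟨μ + α * (α * β) ^ i, T.add_mem hμ (T.mul_mem hα (T.pow_mem (T.mul_mem hα hβ) i)), 2 * i + 1,
        by omega, ?_⟩
      linear_combination h + (α * (α * β) ^ i + μ * (α * (α * β) ^ i) * β) * h2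
  obtain ⟨n, hn⟩ := hn
  obtain ⟨μ, hμ, i, hi, h⟩ := key n
  refine ⟨μ, hμ, ?_⟩
  rw [h, pow_eq_zero_of_le hi hn, mul_zero, add_zero]

/-- the ring data -/
structure RD (F R : Type*) [Field F] [CommRing R] [Algebra F R] where
  u : R
  u' : R
  st : R →ₐ[F] R
  ph : R →ₐ[F] R
  i : ℕ
  uu : u * u' = 1
  two : (2 : R) = 0
  nil : IsNilpotent (1 + u)
  loc : ∀ r : R, ∃ (c : F) (s : R), r = algebraMap F R c + (1 + u) * s
  st_u : st u = u'
  st_st : ∀ r, st (st r) = r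
  ph_st : ∀ r, ph (st r) = st (ph r)
  ph_u : ph u = u ^ (2 * i + 1)
  ph_inj : Function.Injective ph

namespace RD

variable {F R : Type*} [Field F] [CommRing R] [Algebra F R] (D : RD F R)

/-- the uniformizer -/
def t : R := 1 + D.u

/-- the trace and the norm of the uniformizer -/
def y : R := D.u + D.u'

/-- the polynomials in `y` -/
def P : Subalgebra F R := Algebra.adjoin F {D.y}

/-- the symmetric elements -/
def Sy : Subring R := RingHom.eqLocus (D.st : R →+* R) (RingHom.id R)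

theorem mem_Sy {r : R} : r ∈ D.Sy ↔ D.st r = r := Iff.rfl

theorem st_u' : D.st D.u' = D.u := by rw [← D.st_u, D.st_st]

theorem st_t : D.st D.t = D.u' * D.t := by
  rw [t, map_add, map_one, D.st_u]
  linear_combination -D.uu

theorem t_mul_st : D.t * D.st D.t = D.y := by
  rw [t, map_add, map_one, D.st_u, y]
  linear_combination D.uu + D.two

theorem t_add_st : D.t + D.st D.t = D.y := by
  rw [t, map_add, map_one, D.st_u, y]
  linear_combination D.two

theorem t_sq : D.t ^ 2 = D.y * D.u := by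
  rw [t, y]
  linear_combination -D.uu + D.u * D.two

theorem st_y : D.st D.y = D.y := by rw [y, map_add, D.st_u, D.st_u', add_comm]

theorem t_nil : IsNilpotent D.t := D.nil

theorem nil_mul (s : R) : IsNilpotent (D.t * s) := (Commute.all _ _).isNilpotent_mul_right D.t_nil

theorem st_t_nil : IsNilpotent (D.st D.t) := D.t_nil.map D.st

theorem y_nil : IsNilpotent D.y := D.t_mul_st ▸ D.nil_mul _

theorem u_unit : IsUnit D.u := IsUnit.of_mul_eq_one _ D.uu

theorem u'_unit : IsUnit D.u' := IsUnit.of_mul_eq_one D.u (by rw [mul_comm, D.uu])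

theorem unit_add {c : F} (hc : c ≠ 0) {n : R} (hn : IsNilpotent n) : IsUnit (algebraMap F R c + n) :=
  hn.isUnit_add_left_of_commute ((IsUnit.mk0 c hc).map (algebraMap F R)) (Commute.all _ _)

theorem unit_or (r : R) : IsUnit r ∨ ∃ s, r = D.t * s := by
  obtain ⟨c, s, h⟩ := D.loc r
  by_cases hc : c = 0
  · exact Or.inr ⟨s, by rw [h, hc, map_zero, zero_add, t]⟩
  · exact Or.inl (h ▸ unit_add hc (D.nil_mul s))

include D in
theorem unit_or_nil (r : R) : IsUnit r ∨ IsNilpotent r :=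
  (D.unit_or r).imp id fun ⟨s, h⟩ => h ▸ D.nil_mul s

/-- the valuation -/
theorem val (r : R) (n : ℕ) : (∃ s, r = D.t ^ n * s) ∨ ∃ j < n, ∃ ε, IsUnit ε ∧ r = D.t ^ j * ε := by
  induction n with
  | zero => exact Or.inl ⟨r, by simp⟩
  | succ n ih =>
    rcases ih with ⟨s, h⟩ | ⟨j, hj, h⟩
    · rcases D.unit_or s with h1 | ⟨s', h1⟩
      · exact Or.inr ⟨n, n.lt_succ_self, s, h1, h⟩
      · exact Or.inl ⟨s', by rw [h, h1, pow_succ, mul_assoc]⟩
    · exact Or.inr ⟨j, hj.trans n.lt_succ_self, h⟩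

theorem val' {r : R} (hr : r ≠ 0) : ∃ j ε, IsUnit ε ∧ r = D.t ^ j * ε := by
  obtain ⟨n, hn⟩ := D.t_nil
  rcases D.val r n with ⟨s, h⟩ | ⟨j, -, h⟩
  · exact absurd (by rw [h, hn, zero_mul]) hr
  · exact ⟨j, h⟩

theorem pow_u (n : ℕ) : ∃ s, D.u ^ n = 1 + D.t * s := by
  induction n with
  | zero => exact ⟨0, by simp⟩
  | succ n ih =>
    obtain ⟨s, h⟩ := ih
    refine ⟨1 + s * D.u, ?_⟩
    rw [pow_succ, h, t]
    linear_combination (-1 : R) * D.two

theorem pow_u' (n : ℕ) : ∃ s, D.u' ^ n = 1 + D.t * s := by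
  obtain ⟨s, h⟩ := D.pow_u n
  refine ⟨D.u' * D.st s, ?_⟩
  rw [← D.st_u, ← map_pow, h, map_add, map_one, map_mul, D.st_t, D.st_u]
  ring

theorem exists_e_aux (n : ℕ) :
    ∃ e s : R, D.st e = e ∧ e = 1 + D.t * s ∧ 1 + D.u ^ (2 * n + 1) = D.t * D.u ^ n * e := by
  induction n with
  | zero => exact ⟨1, 0, map_one _, by simp, by simp [t]⟩
  | succ n ih =>
    obtain ⟨e, s, h1, h2, h3⟩ := ih
    obtain ⟨a, ha⟩ := D.pow_u (n + 1)
    obtain ⟨b, hb⟩ := D.pow_u' (n + 1)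
    have h4 : D.u ^ (n + 1) * D.u' ^ (n + 1) = 1 := by rw [← mul_pow, D.uu, one_pow]
    refine ⟨e + D.u ^ (n + 1) + D.u' ^ (n + 1), s + a + b, ?_, ?_, ?_⟩
    · rw [map_add, map_add, h1, map_pow, map_pow, D.st_u, D.st_u']
      ring
    · rw [h2, ha, hb]
      linear_combination D.two
    · have h5 : D.t = 1 + D.u := rfl
      rw [h5] at h3 ⊢
      linear_combination D.u * h3 - (1 + D.u) * h4 - (D.u + D.u ^ (2 * n + 2)) * D.two

/-- the multiplier of `ph` -/
structure Mu (e : R) : Prop where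
  st : D.st e = e
  one : ∃ s, e = 1 + D.t * s
  t : D.ph D.t = D.t * D.u ^ D.i * e
  y : D.ph D.y = D.y * e ^ 2

theorem exists_mu : ∃ e, D.Mu e := by
  obtain ⟨e, s, h1, h2, h3⟩ := D.exists_e_aux D.i
  have h4 : D.ph D.t = D.t * D.u ^ D.i * e := by rw [← h3, t, map_add, map_one, D.ph_u]
  refine ⟨e, h1, ⟨s, h2⟩, h4, ?_⟩
  have h5 : D.u ^ D.i * D.u' ^ D.i = 1 := by rw [← mul_pow, D.uu, one_pow]
  rw [← D.t_mul_st, map_mul, D.ph_st, h4, map_mul, map_mul, map_pow, D.st_u, h1]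
  linear_combination D.t * D.st D.t * e ^ 2 * h5

theorem Mu.unit {D : RD F R} {e : R} (h : D.Mu e) : IsUnit e := by
  obtain ⟨s, hs⟩ := h.one
  exact hs ▸ (D.nil_mul s).isUnit_one_add

theorem Mu.nil {D : RD F R} {e : R} (h : D.Mu e) : IsNilpotent (e ^ 2 + 1) := by
  obtain ⟨s, hs⟩ := h.one
  have : e ^ 2 + 1 = D.t * (D.t * s ^ 2) := by
    rw [hs]
    linear_combination (1 + D.t * s) * D.two
  exact this ▸ D.nil_mul _

theorem y_mem : D.y ∈ D.P := Algebra.self_mem_adjoin_singleton F D.y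

theorem P_sym {p : R} (hp : p ∈ D.P) : D.st p = p := by
  induction hp using Algebra.adjoin_induction with
  | mem x hx => rw [Set.mem_singleton_iff.1 hx, D.st_y]
  | algebraMap c => exact D.st.commutes c
  | add a b _ _ ha hb => rw [map_add, ha, hb]
  | mul a b _ _ ha hb => rw [map_mul, ha, hb]

theorem P_dec {p : R} (hp : p ∈ D.P) : ∃ c : F, ∃ q ∈ D.P, p = algebraMap F R c + D.y * q := by
  induction hp using Algebra.adjoin_induction with
  | mem x hx => exact ⟨0, 1, D.P.one_mem, by simp [Set.mem_singleton_iff.1 hx]⟩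
  | algebraMap c => exact ⟨c, 0, D.P.zero_mem, by simp⟩
  | add a b _ _ ha hb =>
    obtain ⟨c, q, hq, rfl⟩ := ha
    obtain ⟨d, r, hr, rfl⟩ := hb
    exact ⟨c + d, q + r, D.P.add_mem hq hr, by rw [map_add]; ring⟩
  | mul a b _ hb' ha hb =>
    obtain ⟨c, q, hq, rfl⟩ := ha
    obtain ⟨d, r, hr, h⟩ := hb
    refine ⟨c * d, algebraMap F R c * r + q * b, D.P.add_mem (D.P.mul_mem (D.P.algebraMap_mem c) hr)
      (D.P.mul_mem hq hb'), ?_⟩
    rw [map_mul]
    linear_combination (algebraMap F R c) * h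

theorem P_val {p : R} (hp : p ∈ D.P) (n : ℕ) :
    (∃ q ∈ D.P, p = D.y ^ n * q) ∨ ∃ j < n, ∃ q ∈ D.P, IsUnit q ∧ p = D.y ^ j * q := by
  induction n with
  | zero => exact Or.inl ⟨p, hp, by simp⟩
  | succ n ih =>
    rcases ih with ⟨q, hq, h⟩ | ⟨j, hj, h⟩
    · obtain ⟨c, r, hr, h1⟩ := D.P_dec hq
      by_cases hc : c = 0
      · exact Or.inl ⟨r, hr, by rw [h, h1, hc, map_zero, zero_add, pow_succ, mul_assoc]⟩
      · exact Or.inr ⟨n, n.lt_succ_self, q, hq,
          h1 ▸ unit_add hc ((Commute.all _ _).isNilpotent_mul_right D.y_nil), h⟩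
    · exact Or.inr ⟨j, hj.trans n.lt_succ_self, h⟩

theorem P_ph {p : R} (hp : p ∈ D.P) : ∃ ρ, D.st ρ = ρ ∧ IsNilpotent ρ ∧ D.ph p = p + D.y * ρ := by
  induction hp using Algebra.adjoin_induction with
  | mem x hx =>
    obtain ⟨e, he⟩ := D.exists_mu
    refine ⟨e ^ 2 + 1, by rw [map_add, map_pow, map_one, he.st], he.nil, ?_⟩
    rw [Set.mem_singleton_iff.1 hx, he.y]
    linear_combination (-D.y) * D.two
  | algebraMap c => exact ⟨0, map_zero _, IsNilpotent.zero, by simp⟩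
  | add a b _ _ ha hb =>
    obtain ⟨ρ, h1, h2, h3⟩ := ha
    obtain ⟨σ, h4, h5, h6⟩ := hb
    exact ⟨ρ + σ, by rw [map_add, h1, h4], (Commute.all _ _).isNilpotent_add h2 h5, by
      rw [map_add, h3, h6]; ring⟩
  | mul a b ha' hb' ha hb =>
    obtain ⟨ρ, h1, h2, h3⟩ := ha
    obtain ⟨σ, h4, h5, h6⟩ := hb
    refine ⟨ρ * b + σ * (a + D.y * ρ), ?_, (Commute.all _ _).isNilpotent_add
      ((Commute.all _ _).isNilpotent_mul_right h2) ((Commute.all _ _).isNilpotent_mul_right h5), ?_⟩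
    · simp only [map_add, map_mul, h1, h4, D.P_sym ha', D.P_sym hb', D.st_y]
    · rw [map_mul, h3, h6]; ring

theorem sym_inv {p q : R} (hp : D.st p = p) (h : p * q = 1) : D.st q = q := by
  have h1 : p * D.st q = 1 := by rw [← hp, ← map_mul, h, map_one]
  linear_combination q * h1 - D.st q * h

theorem sym_ph {p : R} (hp : D.st p = p) : D.st (D.ph p) = D.ph p := by rw [← D.ph_st, hp]

/-- the norm of `1 + μ t` -/
theorem norm_one {μ : R} (hμ : D.st μ = μ) : (1 + μ * D.t) * D.st (1 + μ * D.t) = 1 + (μ + μ ^ 2) * D.y := by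
  rw [map_add, map_one, map_mul, hμ]
  linear_combination μ * D.t_add_st + μ ^ 2 * D.t_mul_st

/-- `ph p / p` is a norm -/
theorem exists_norm {p : R} (hp : p ∈ D.P) (hu : IsUnit p) : ∃ c, IsUnit c ∧ c * D.st c * p = D.ph p := by
  obtain ⟨ρ, h1, h2, h3⟩ := D.P_ph hp
  obtain ⟨q, hq⟩ := hu.exists_right_inv
  have h4 := D.sym_inv (D.P_sym hp) hq
  obtain ⟨μ, hμ, h5⟩ := as_lemma D.two D.Sy (α := ρ * q) (β := 1) (D.Sy.mul_mem h1 h4) D.Sy.one_mem
    (by rw [mul_one]; exact (Commute.all _ _).isNilpotent_mul_right h2)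
  refine ⟨1 + μ * D.t, (mul_comm D.t μ ▸ D.nil_mul μ).isUnit_one_add, ?_⟩
  rw [D.norm_one hμ, h3]
  linear_combination D.y * p * h5 + D.y * ρ * hq

/-- the sums `u ^ n + u' ^ n` are polynomials in `y` -/
theorem dickson (n : ℕ) : D.u ^ n + D.u' ^ n ∈ D.P := by
  have key : ∀ n : ℕ, D.u ^ n + D.u' ^ n ∈ D.P ∧ D.u ^ (n + 1) + D.u' ^ (n + 1) ∈ D.P := by
    intro n
    induction n with
    | zero =>
      refine ⟨?_, by simpa [y] using D.y_mem⟩
      rw [pow_zero, pow_zero]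
      exact D.P.add_mem D.P.one_mem D.P.one_mem
    | succ n ih =>
      refine ⟨ih.2, ?_⟩
      have : D.u ^ (n + 1 + 1) + D.u' ^ (n + 1 + 1) =
          D.y * (D.u ^ (n + 1) + D.u' ^ (n + 1)) - (D.u ^ n + D.u' ^ n) := by
        rw [y]
        linear_combination (-(D.u ^ n + D.u' ^ n)) * D.uu
      rw [this]
      exact D.P.sub_mem (D.P.mul_mem D.y_mem ih.2) ih.1
  exact (key n).1

end RD

end Cfsg.Agent.ODD.Sp2
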