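import Cfsg.Agent.ODD.Sp2.Unip

/-!
# `Sp_{2n}(2)`: power maps, elements without fixed vectors (helper22, ODD)

* `exists_conj` : over the field with two elements `g` is similar to `g ^ k`;
* `good_of_conj` : if `g` fixes no vector, similarity implies conjugacy by an isometry.
-/

set_option autoImplicit false

namespace Cfsg.Agent.ODD.Sp2

open Module Polynomial

universe u

variable {F : Type u} [Field F] {V : Type*} [AddCommGroup V] [Module F V]

/-- a presentation of the `F[X]`-module `V` -/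
theorem exists_pres [FiniteDimensional F V] (g : Module.End F V) :
    ∃ (ι : Type u) (p : ι → F[X]) (e : ι → ℕ) (π : (ι → F[X]) →ₗ[F] V), (∀ i, Irreducible (p i)) ∧
      Function.Surjective π ∧ (∀ r, π r = 0 ↔ ∀ i, p i ^ e i ∣ r i) ∧ ∀ r, g (π r) = π fun i => X * r i := by
  obtain ⟨ι, _, p, hp, e, ⟨φ⟩⟩ := Module.equiv_directSum_of_isTorsion (R := F[X]) (M := AEval' g)
    (AEval.isTorsion_of_finiteDimensional F V g)
  let ψ := φ.trans (DirectSum.linearEquivFunOnFintype F[X] ι fun i => F[X] ⧸ F[X] ∙ p i ^ e i)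
  let q : (ι → F[X]) →ₗ[F[X]] (∀ i, F[X] ⧸ F[X] ∙ p i ^ e i) :=
    LinearMap.pi fun i => (F[X] ∙ p i ^ e i).mkQ ∘ₗ LinearMap.proj i
  have hq : ∀ r i, q r i = Submodule.Quotient.mk (r i) := fun _ _ => rfl
  refine ⟨ι, p, e, (AEval'.of g).symm.toLinearMap ∘ₗ (ψ.symm.toLinearMap ∘ₗ q).restrictScalars F, hp, ?_,
    fun r => ?_, fun r => ?_⟩
  · refine (AEval'.of g).symm.surjective.comp (ψ.symm.surjective.comp fun y => ?_)
    choose r hr using fun i => Submodule.Quotient.mk_surjective _ (y i)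
    exact ⟨r, funext hr⟩
  · change (AEval'.of g).symm (ψ.symm (q r)) = 0 ↔ _
    rw [LinearEquiv.map_eq_zero_iff, LinearEquiv.map_eq_zero_iff, funext_iff]
    refine forall_congr' fun i => ?_
    rw [hq, Pi.zero_apply, Submodule.Quotient.mk_eq_zero]
    exact Ideal.mem_span_singleton
  · change g ((AEval'.of g).symm (ψ.symm (q r))) = (AEval'.of g).symm (ψ.symm (q ((X : F[X]) • r)))
    rw [map_smul, map_smul, AEval'.of_symm_X_smul]

theorem expand_two_pow [Fintype F] (hF : Fintype.card F = 2) (p : F[X]) (j : ℕ) :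
    expand F (2 ^ j) p = p ^ 2 ^ j := by
  induction j with
  | zero => simp
  | succ j ih => rw [pow_succ', ← expand_expand, ih, ← hF, FiniteField.expand_card, ← pow_mul, hF, mul_comm]

theorem two_of_card [Fintype F] (hF : Fintype.card F = 2) : (2 : F) = 0 := by
  have := FiniteField.cast_card_eq_zero F
  rwa [hF] at this

theorem root_pow {P : F[X]} {n : ℕ} (h : P ∣ X ^ n - 1) : AdjoinRoot.root P ^ n = 1 := by
  have h1 := AdjoinRoot.mk_eq_zero.2 h
  rwa [map_sub, map_pow, map_one, AdjoinRoot.mk_X, sub_eq_zero] at h1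

theorem dvd_expand [Fintype F] (hF : Fintype.card F = 2) {p : F[X]} (hp : Irreducible p) {e a n k j : ℕ}
    (h : p ^ e ∣ X ^ (2 ^ a * n) - 1) (hk : k ≡ 2 ^ j [MOD n]) : p ^ e ∣ expand F k (p ^ e) := by
  rcases Nat.eq_zero_or_pos e with rfl | he
  · simp
  rw [map_pow]
  refine pow_dvd_pow_of_dvd ?_ e
  have h2 := two_alg (two_of_card hF) F[X]
  have h3 : (X ^ (2 ^ a * n) - 1 : F[X]) = (1 + X ^ n) ^ 2 ^ a := by
    rw [one_add_pow_two_pow h2, ← pow_mul, mul_comm n]
    linear_combination (-1 : F[X]) * h2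
  have h4 : p ∣ X ^ n - 1 := by
    have : (X ^ n - 1 : F[X]) = 1 + X ^ n := by linear_combination (-1 : F[X]) * h2
    rw [this]
    exact hp.prime.dvd_of_dvd_pow ((dvd_pow_self p he.ne').trans (h3 ▸ h))
  rw [← AdjoinRoot.mk_eq_zero, ← AdjoinRoot.aeval_eq, expand_aeval, pow_eq_pow_of_modEq hk (root_pow h4),
    ← expand_aeval, expand_two_pow hF, map_pow, AdjoinRoot.aeval_eq, AdjoinRoot.mk_self,
    zero_pow (pow_ne_zero _ two_ne_zero)]

theorem dvd_sub_expand {P : F[X]} {o k k' : ℕ} (h : P ∣ X ^ o - 1) (hk : k * k' ≡ 1 [MOD o]) (r : F[X]) :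
    P ∣ expand F k (expand F k' r) - r := by
  rw [← AdjoinRoot.mk_eq_zero, ← AdjoinRoot.aeval_eq, map_sub, expand_expand, expand_aeval,
    pow_eq_pow_of_modEq hk (root_pow h), pow_one, sub_self]

/-- **similarity** -/
theorem exists_conj [Fintype F] [FiniteDimensional F V] (hF : Fintype.card F = 2) {g : Module.End F V} {a n k j : ℕ}
    (hn : Odd n) (hg : g ^ (2 ^ a * n) = 1) (hk : Odd k) (hj : k ≡ 2 ^ j [MOD n]) :
    ∃ θ : Module.End F V, Function.Injective θ ∧ ∀ x, θ (g x) = (g ^ k) (θ x) := by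
  obtain ⟨ι, p, e, π, hp, hs, h0, hX⟩ := exists_pres g
  have hpow : ∀ (m : ℕ) r, (g ^ m) (π r) = π fun i => X ^ m * r i := by
    intro m
    induction m with
    | zero => simp
    | succ m ih =>
      intro r
      rw [pow_succ', Module.End.mul_apply, ih, hX]
      simp only [pow_succ', mul_assoc]
  have hd : ∀ i, p i ^ e i ∣ X ^ (2 ^ a * n) - 1 := by
    refine (h0 fun _ => X ^ (2 ^ a * n) - 1).1 ?_
    have h1 := hpow (2 ^ a * n) fun _ => 1
    rw [hg, Module.End.one_apply] at h1
    have h2 : (fun _ : ι => (X ^ (2 ^ a * n) - 1 : F[X])) = (fun _ => X ^ (2 ^ a * n) * 1) - fun _ => 1 := by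
      ext1 i
      simp
    rw [h2, map_sub, ← h1, sub_self]
  let E : (ι → F[X]) →ₗ[F] (ι → F[X]) := LinearMap.pi fun i => (expand F k).toLinearMap ∘ₗ LinearMap.proj i
  have hE : ∀ r i, E r i = expand F k (r i) := fun _ _ => rfl
  obtain ⟨θ, hθ⟩ := exists_factor π (π ∘ₗ E) fun r hr => (h0 _).2 fun i => by
    obtain ⟨c, hc⟩ := (h0 r).1 hr i
    rw [hE, hc, map_mul]
    exact (dvd_expand hF (hp i) (hd i) hj).mul_right _
  let θ' : Module.End F V := θ ∘ₗ LinearMap.codRestrict (LinearMap.range π) LinearMap.id fun x => hs x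
  have hθ' : ∀ r, θ' (π r) = π (E r) := fun r => hθ _ r rfl
  have hcop : k.Coprime (2 ^ a * n) := by
    refine Nat.Coprime.mul_right (Nat.Coprime.pow_right _ (Nat.coprime_two_right.2 hk)) ?_
    rw [Nat.Coprime, hj.gcd_eq]
    exact Nat.Coprime.pow_left _ (Nat.coprime_two_left.2 hn)
  have ht : 0 < (2 ^ a * n).totient := Nat.totient_pos.2 (Nat.mul_pos (Nat.two_pow_pos a) hn.pos)
  have hk' : k * k ^ ((2 ^ a * n).totient - 1) ≡ 1 [MOD 2 ^ a * n] := by
    rw [← pow_succ', Nat.sub_add_cancel ht]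
    exact Nat.ModEq.pow_totient hcop
  refine ⟨θ', LinearMap.injective_iff_surjective.2 fun y => ?_, fun x => ?_⟩
  · obtain ⟨r, rfl⟩ := hs y
    refine ⟨π fun i => expand F (k ^ ((2 ^ a * n).totient - 1)) (r i), ?_⟩
    rw [hθ', ← sub_eq_zero, ← map_sub]
    exact (h0 _).2 fun i => dvd_sub_expand (hd i) hk' (r i)
  · obtain ⟨r, rfl⟩ := hs x
    rw [hX, hθ', hθ', hpow]
    congr 1
    ext1 i
    rw [hE, hE, map_mul, expand_X]

theorem norm_trick {S : Type*} [CommRing S] (h2 : (2 : S) = 0) (T : Subring S) {a z : S} (ha : a ∈ T)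
    (hz : z * (1 + z) ∈ T) {M : ℕ} (hM : M ≠ 0) (haM : a ^ M = 1) :
    ∃ p ∈ T, ∃ μ ∈ T, (p + (1 + z) * μ * p) * a * (p * (1 + μ * z)) = 1 := by
  obtain ⟨r, n, ⟨n', rfl⟩, rfl⟩ := Nat.exists_eq_two_pow_mul_odd hM
  have hnil : IsNilpotent ((1 + a ^ (2 * n' + 1)) * (z * (1 + z))) := by
    refine (Commute.all _ _).isNilpotent_mul_right ⟨2 ^ r, ?_⟩
    rw [one_add_pow_two_pow h2, ← pow_mul, mul_comm _ (2 ^ r), haM, one_add_one_eq_two, h2]
  obtain ⟨μ, hμ, h⟩ := as_lemma h2 T (T.add_mem T.one_mem (T.pow_mem ha _)) hz hnil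
  have hle : n' + 1 ≤ 2 ^ r * (2 * n' + 1) := le_trans (by omega) (Nat.le_mul_of_pos_left _ (Nat.two_pow_pos r))
  obtain ⟨d, hd⟩ := Nat.exists_eq_add_of_le hle
  rw [hd] at haM
  refine ⟨a ^ d, T.pow_mem ha d, μ, hμ, ?_⟩
  linear_combination a ^ (2 * d + 1) * h + (a ^ (n' + 1 + d) + 1) * haM + a ^ (2 * d + 1) * (1 + μ * z) * h2

variable {B : LinearMap.BilinForm F V} {g : Module.End F V}

open scoped IsMulCommutative in
/-- **from similarity to conjugacy by an isometry** -/
theorem good_of_conj [Finite F] [FiniteDimensional F V] (h : Sp B g) (hfix : ∀ x, g x = x → x = 0)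
    {g' θ : Module.End F V} (h' : Sp B g') (hθ : Function.Injective θ) (hc : ∀ x, θ (g x) = g' (θ x)) :
    Good B g g' := by
  have h2V : ∀ x : V, x + x = 0 := fun x => by rw [← two_smul F, h.two, zero_smul]
  have hgi : Function.Injective g := (injective_iff_map_eq_zero g).2 fun x hx => h.nd x fun y => by
    rw [← h.iso, hx, map_zero, LinearMap.zero_apply]
  have hgs : Function.Surjective g := LinearMap.injective_iff_surjective.1 hgi
  -- the quotient `a` of the two forms
  obtain ⟨a, ha⟩ : ∃ a : Module.End F V, ∀ x y, B (a x) y = B (θ x) (θ y) :=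
    ⟨B.leftAdjointOfNondegenerate h.nondeg θ ∘ₗ θ, fun x y =>
      B.isAdjointPairLeftAdjointOfNondegenerate h.nondeg θ (θ x) y⟩
  have hext : ∀ x y : V, (∀ w, B x w = B y w) → x = y := fun x y hxy =>
    sub_eq_zero.1 (h.nd _ fun w => by rw [map_sub, LinearMap.sub_apply, hxy, sub_self])
  have hag : a * g = g * a := by
    ext x
    refine hext _ _ fun w => ?_
    obtain ⟨w, rfl⟩ := hgs w
    rw [Module.End.mul_apply, Module.End.mul_apply, ha, hc, hc, h'.iso, h.iso, ha]
  have hau : IsUnit a := (LinearMap.isUnit_iff_ker_eq_bot a).2 (LinearMap.ker_eq_bot'.2 fun x hx => hθ (by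
    rw [map_zero]
    refine h.nd _ fun w => ?_
    obtain ⟨w, rfl⟩ := LinearMap.injective_iff_surjective.1 hθ w
    rw [← ha, hx, map_zero, LinearMap.zero_apply]))
  have : Finite V := Module.finite_of_finite F
  have : Finite (Module.End F V) := Finite.of_injective _ DFunLike.coe_injective
  have haM : a ^ orderOf hau.unit = 1 := by
    have := congrArg Units.val (pow_orderOf_eq_one hau.unit)
    rwa [Units.val_pow_eq_pow_val, IsUnit.unit_spec, Units.val_one] at this
  -- the element `z` of trace one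
  have hu : IsUnit (1 + g) := (LinearMap.isUnit_iff_ker_eq_bot _).2 (LinearMap.ker_eq_bot'.2 fun x hx => hfix x (by
    rw [LinearMap.add_apply, Module.End.one_apply] at hx
    rw [← add_left_cancel_iff (a := x), hx, h2V]))
  obtain ⟨z, hz1, hz2⟩ := isUnit_iff_exists.1 hu
  have hcz : ∀ b : Module.End F V, b * g = g * b → b * z = z * b := fun b hb => by
    have h1 : b * (1 + g) = (1 + g) * b := by rw [mul_add, add_mul, hb, mul_one, one_mul]
    calc b * z = z * (1 + g) * b * z := by rw [hz2, one_mul]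
      _ = z * b * ((1 + g) * z) := by rw [mul_assoc z, ← h1]; simp only [mul_assoc]
      _ = z * b := by rw [hz1, mul_one]
  have hzadj : ∀ x y, B (z x) y = B x ((1 + z) y) := fun x y => by
    have h1 : ∀ x, x = (1 + g) (z x) := fun x => by rw [← Module.End.mul_apply, hz1, Module.End.one_apply]
    have h3 : (1 + z) y = g (z y) := by
      rw [LinearMap.add_apply, Module.End.one_apply]
      nth_rw 1 [h1 y]
      rw [LinearMap.add_apply, Module.End.one_apply, add_right_comm, h2V, zero_add]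
    rw [h3]
    nth_rw 1 [h1 y]
    nth_rw 2 [h1 x]
    simp only [LinearMap.add_apply, Module.End.one_apply, map_add, h.iso, add_comm]
  have : IsMulCommutative (Algebra.adjoin F ({a, z} : Set (Module.End F V))) :=
    Algebra.isMulCommutative_adjoin F (by
      rintro _ (rfl | rfl) _ (rfl | rfl)
      exacts [rfl, hcz _ hag, (hcz _ hag).symm, rfl])
  have hSg : ∀ d ∈ Algebra.adjoin F ({a, z} : Set (Module.End F V)), d * g = g * d := fun d hd => by
    have h1 : Algebra.adjoin F ({a, z} : Set (Module.End F V)) ≤ Subalgebra.centralizer F {g} :=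
      Algebra.adjoin_le (by
        rintro _ (rfl | rfl) _ rfl
        exacts [hag.symm, hcz _ rfl])
    exact (h1 hd g rfl).symm
  let T : Subring (Algebra.adjoin F ({a, z} : Set (Module.End F V))) :=
    { carrier := {d | ∀ x y, B (d.1 x) y = B x (d.1 y)}
      mul_mem' := fun {c d} hc hd x y => by
        nth_rw 2 [mul_comm c d]
        exact (hc _ _).trans (hd _ _)
      one_mem' := fun _ _ => rfl
      add_mem' := fun {c d} hc hd x y => by
        simp only [Subalgebra.coe_add, LinearMap.add_apply, map_add, hc x y, hd x y]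
      zero_mem' := fun _ _ => by simp
      neg_mem' := fun {c} hc x y => by
        simp only [Subalgebra.coe_neg, LinearMap.neg_apply, map_neg, hc x y] }
  let a' : Algebra.adjoin F ({a, z} : Set (Module.End F V)) := ⟨a, Algebra.subset_adjoin (by simp)⟩
  let z' : Algebra.adjoin F ({a, z} : Set (Module.End F V)) := ⟨z, Algebra.subset_adjoin (by simp)⟩
  obtain ⟨p, hp, μ, hμ, hn⟩ := norm_trick (two_alg h.two _) T (a := a') (z := z')
    (fun x y => by rw [h.symm x]; exact (ha x y).trans ((h.symm _ _).trans (ha y x).symm))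
    (fun x y => by
      change B (z ((1 + z) x)) y = B x (z ((1 + z) y))
      rw [hzadj, h.symm x, hzadj, h.symm])
    (orderOf_pos hau.unit).ne' (Subtype.ext haM)
  refine ⟨θ ∘ₗ (p * (1 + μ * z')).1, fun x y => ?_, fun x => ?_⟩
  · have h1 : ∀ v w, B ((p * (1 + μ * z')).1 v) w = B v ((p + (1 + z') * μ * p).1 w) := fun v w => by
      change B (p.1 (v + μ.1 (z v))) w = B v (p.1 w + (1 + z) (μ.1 (p.1 w)))
      rw [hp, map_add, LinearMap.add_apply, hμ, hzadj, map_add]
    rw [LinearMap.comp_apply, LinearMap.comp_apply, ← ha, h.symm, h1, h.symm]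
    have h3 := congrArg (fun d => d.1 x) hn
    exact congrArg (B · y) h3
  · rw [LinearMap.comp_apply, LinearMap.comp_apply, ← hc]
    exact congrArg (fun d : Module.End F V => θ (d x)) (hSg _ (p * (1 + μ * z')).2)

/-- **the power maps** -/
theorem good_pow [Fintype F] [FiniteDimensional F V] (hF : Fintype.card F = 2) (h : Sp B g) {a n k j : ℕ}
    (hn : Odd n) (hg : g ^ (2 ^ a * n) = 1) (hk : Odd k) (hj : k ≡ 2 ^ j [MOD n]) : Good B g (g ^ k) := by
  have hs := h.pow (2 ^ a)
  have hW : Sub B g (LinearMap.ker (g ^ 2 ^ a - 1)) := by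
    refine ⟨fun x hx => ?_, fun x hx h1 => h.nd x fun y => ?_⟩
    · rw [LinearMap.mem_ker, LinearMap.sub_apply, Module.End.one_apply, sub_eq_zero] at hx ⊢
      rw [← Module.End.mul_apply, ← pow_succ, pow_succ', Module.End.mul_apply, hx]
    · rw [LinearMap.mem_ker, LinearMap.sub_apply, Module.End.one_apply, sub_eq_zero] at hx
      have h2 := h1 ((∑ i ∈ Finset.range n, (g ^ 2 ^ a) ^ i) y) (by
        rw [LinearMap.mem_ker, ← Module.End.mul_apply, mul_geom_sum, ← pow_mul, hg, sub_self, LinearMap.zero_apply])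
      have h3 : ∀ i, B x (((g ^ 2 ^ a) ^ i) y) = B x y := fun i => by
        rw [← hs.iso_pow i x y, Module.End.pow_apply, Module.End.pow_apply _ i x,
          Function.iterate_fixed hx]
      rw [LinearMap.sum_apply, map_sum, Finset.sum_congr rfl fun i _ => h3 i, Finset.sum_const, Finset.card_range,
        nsmul_eq_mul] at h2
      obtain ⟨n', rfl⟩ := hn
      push_cast at h2
      linear_combination h2 - n' * B x y * h.two
  have hg' : g ^ (2 ^ a * n - 1 + 1) = 1 := by
    rwa [Nat.sub_add_cancel (Nat.mul_pos (Nat.two_pow_pos a) hn.pos)]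
  have hW' := hW.orth h hg'
  refine glue h hg' hW (Good.on hW.inv (good_unip (h.restrict hW) (e := a) ?_ hk)) (Good.on hW'.inv ?_)
  · rw [Module.End.pow_restrict]
    ext x
    have hx := x.2
    rw [LinearMap.mem_ker, LinearMap.sub_apply, Module.End.one_apply, sub_eq_zero] at hx
    exact hx
  · obtain ⟨θ, h1, h2⟩ := exists_conj hF hn (restrict_pow_eq_one hW'.inv hg) hk hj
    refine good_of_conj (h.restrict hW') (fun x hx => Subtype.ext (hW.nd x ?_ fun y hy => ?_))
      ((h.restrict hW').pow k) h1 h2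
    · have h3 : g x = x := congrArg Subtype.val hx
      rw [LinearMap.mem_ker, LinearMap.sub_apply, Module.End.one_apply, sub_eq_zero, Module.End.pow_apply,
        Function.iterate_fixed h3]
    · rw [h.symm]
      exact x.2 y hy

end Cfsg.Agent.ODD.Sp2
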