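import Cfsg.Agent.ODD.Sp2.Lin

/-!
# `Sp_{2n}(2)`: power maps, unipotent elements (helper22, ODD)

`good_unip` : an isometry `g` of order a power of two of an alternating form in characteristic two is conjugate to
its odd powers by an isometry.
-/

set_option autoImplicit false

namespace Cfsg.Agent.ODD.Sp2

open Module MonoidAlgebra

theorem pow_loc {R : Type*} [CommRing R] (h2 : (2 : R) = 0) (u : R) (n : ℕ) : ∃ s, u ^ n = 1 + (1 + u) * s := by
  induction n with
  | zero => exact ⟨0, by simp⟩
  | succ n ih =>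
    obtain ⟨s, h⟩ := ih
    refine ⟨1 + s * u, ?_⟩
    rw [pow_succ, h]
    linear_combination (-1 : R) * h2

theorem one_add_pow_two_pow {R : Type*} [CommRing R] (h2 : (2 : R) = 0) (u : R) (n : ℕ) :
    (1 + u) ^ 2 ^ n = 1 + u ^ 2 ^ n := by
  induction n with
  | zero => simp
  | succ n ih =>
    rw [pow_succ, pow_mul, pow_mul, ih]
    linear_combination u ^ 2 ^ n * h2

variable {F : Type*} [Field F] {C : Type*} [CommGroup C]

theorem two_alg (h2 : (2 : F) = 0) (R : Type*) [Ring R] [Algebra F R] : (2 : R) = 0 := by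
  rw [← map_ofNat (algebraMap F R) 2, h2, map_zero]

/-- the group algebra of a cyclic `2`-group -/
noncomputable def rd (h2 : (2 : F) = 0) (c : C) (hc : ∀ x, ∃ n : ℕ, x = c ^ n) {e : ℕ} (he : c ^ 2 ^ e = 1)
    (i : ℕ) (φ : C ≃* C) (hφ : φ c = c ^ (2 * i + 1)) : RD F (MonoidAlgebra F C) where
  u := single c 1
  u' := single c⁻¹ 1
  st := domCongr F F (MulEquiv.inv C)
  ph := domCongr F F φ
  i := i
  uu := by rw [single_mul_single, mul_inv_cancel, mul_one, one_def]
  two := two_alg h2 _
  nil := ⟨2 ^ e, by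
    rw [one_add_pow_two_pow (two_alg h2 _), single_pow, he, one_pow, ← one_def, one_add_one_eq_two, two_alg h2]⟩
  loc r := by
    induction r using induction_linear with
    | zero => exact ⟨0, 0, by simp⟩
    | add x y hx hy =>
      obtain ⟨a, s, rfl⟩ := hx
      obtain ⟨b, t, rfl⟩ := hy
      exact ⟨a + b, s + t, by rw [map_add]; ring⟩
    | single x a =>
      obtain ⟨n, rfl⟩ := hc x
      obtain ⟨s, hs⟩ := pow_loc (two_alg h2 (MonoidAlgebra F C)) (single c 1) n
      refine ⟨a, algebraMap F _ a * s, ?_⟩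
      have : (single (c ^ n) a : MonoidAlgebra F C) = algebraMap F _ a * single c 1 ^ n := by
        rw [single_pow, one_pow, ← Algebra.smul_def, smul_single, smul_eq_mul, mul_one]
      rw [this, hs]
      ring
  st_u := by simp
  st_st r := by
    ext x
    simp
  ph_st r := by
    ext x
    simp
  ph_u := by simp [hφ, single_pow]
  ph_inj := (domCongr F F φ).injective

variable {V : Type*} [AddCommGroup V] [Module F V] {B : LinearMap.BilinForm F V} {g : Module.End F V}

/-- the hermitian form -/
noncomputable def hf [Finite C] (B : LinearMap.BilinForm F V) (ρ : C →* Module.End F V) (v w : V) :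
    MonoidAlgebra F C :=
  ofCoeff (Finsupp.equivFunOnFinite.symm fun x => B v (ρ x w))

theorem coeff_hf [Finite C] (ρ : C →* Module.End F V) (v w : V) (x : C) : (hf B ρ v w).coeff x = B v (ρ x w) := rfl

/-- a block in a nonzero space -/
theorem exists_sub [Finite C] [FiniteDimensional F V] [Nontrivial V] (h : Sp B g) (c : C) (hc : ∀ x, ∃ n : ℕ, x = c ^ n)
    {e : ℕ} (he : c ^ 2 ^ e = 1) (i : ℕ) (φ : C ≃* C) (hφ : φ c = c ^ (2 * i + 1)) (ρ : C →* Module.End F V)
    (hρ : ρ c = g) (hinv : ∀ x, x⁻¹ = x → ρ x = 1) :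
    ∃ W : Submodule F V, W ≠ ⊥ ∧ Sub B g W ∧ GoodOn B g (g ^ (2 * i + 1)) W := by
  classical
  have := Fintype.ofFinite C
  let D := rd h.two c hc he i φ hφ
  let act : MonoidAlgebra F C →ₐ[F] Module.End F V := MonoidAlgebra.lift F _ C ρ
  let _ : Module (MonoidAlgebra F C) V := Module.compHom V (act : MonoidAlgebra F C →+* Module.End F V)
  have hs : ∀ (r : MonoidAlgebra F C) (v : V), r • v = act r v := fun _ _ => rfl
  have : IsScalarTower F (MonoidAlgebra F C) V := ⟨fun a r v => by rw [hs, hs, map_smul, LinearMap.smul_apply]⟩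
  have hiso : ∀ x v w, B (ρ x v) (ρ x w) = B v w := fun x v w => by
    obtain ⟨n, rfl⟩ := hc x
    rw [map_pow, hρ, h.iso_pow]
  have hadj : ∀ x v w, B (ρ x v) w = B v (ρ x⁻¹ w) := fun x v w => by
    rw [← hiso x v, ← Module.End.mul_apply (ρ x) (ρ x⁻¹), ← map_mul, mul_inv_cancel, map_one, Module.End.one_apply]
  have hadd : ∀ a b c, hf B ρ (a + b) c = hf B ρ a c + hf B ρ b c := fun a b c => by
    ext x
    simp [coeff_hf]
  let H : HF D V :=
    { h := hf B ρ
      add_l := hadd
      smul_l := fun r a b => by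
        induction r using induction_linear with
        | zero =>
          ext x
          simp [coeff_hf]
        | add x y hx hy => rw [add_smul, hadd, hx, hy, add_mul]
        | single x s =>
          ext z
          rw [coeff_single_mul_apply, coeff_hf, coeff_hf, hs, MonoidAlgebra.lift_single, LinearMap.smul_apply, map_smul,
            LinearMap.smul_apply, hadj, map_mul, Module.End.mul_apply, smul_eq_mul]
      symm := fun a b => by
        ext x
        change _ = (domCongr F F (MulEquiv.inv C) (hf B ρ a b)).coeff x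
        rw [coeff_domCongr, coeff_hf, coeff_hf, h.symm, hadj]
        rfl
      even := fun a => by
        have h1 : hf B ρ a a = ∑ x, single x (B a (ρ x a)) := by
          ext z
          simp [coeff_hf, Finsupp.single_apply]
        have h2 : ∑ x, (QuotientAddGroup.mk' D.P.toSubring.toAddSubgroup) (single x (B a (ρ x a))) = 0 := by
          refine Finset.sum_involution (fun x _ => x⁻¹) (fun x _ => ?_) (fun x _ hx hx' => hx ?_)
            (fun _ _ => Finset.mem_univ _) fun x _ => inv_inv x
          · rw [← map_add, ← hadj, h.symm (ρ x a) a]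
            refine (QuotientAddGroup.eq_zero_iff _).2 ?_
            obtain ⟨n, rfl⟩ := hc x
            have h3 := D.P.smul_mem (D.dickson n) (B a (ρ (c ^ n) a))
            have h4 : D.u = single c 1 := rfl
            have h5 : D.u' = single c⁻¹ 1 := rfl
            rw [h4, h5, single_pow, single_pow, one_pow, smul_add, smul_single, smul_single, smul_eq_mul, mul_one,
              inv_pow] at h3
            exact h3
          · rw [hinv x hx', Module.End.one_apply, h.alt, single_zero, map_zero]
        rw [← map_sum, ← h1] at h2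
        exact (QuotientAddGroup.eq_zero_iff _).1 h2
      nd := fun a ha => h.nd a fun b => by
        have h1 := congrArg (fun r => r.coeff 1) (ha b)
        simpa [coeff_hf] using h1 }
  obtain ⟨v, w, v', w', hb⟩ := H.exists_blk
  let l : MonoidAlgebra F C →ₗ[F] F :=
    { toFun := fun r => r.coeff 1
      map_add' := fun _ _ => rfl
      map_smul' := fun _ _ => rfl }
  refine gram H hb l (fun a ha => ?_) (fun a => ?_) (fun x y => ?_) fun x => ?_
  · ext x
    have h1 := ha (single x⁻¹ 1)
    change (single x⁻¹ 1 * a).coeff 1 = 0 at h1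
    rw [coeff_single_mul_apply] at h1
    simpa using h1
  · change (domCongr F F φ a).coeff 1 = a.coeff 1
    rw [coeff_domCongr, map_one]
  · change _ = (hf B ρ x y).coeff 1
    rw [coeff_hf, map_one, Module.End.one_apply]
  · change _ = act (single c 1) x
    rw [MonoidAlgebra.lift_single, one_smul, hρ]

theorem exists_sub' [FiniteDimensional F V] [Nontrivial V] (h : Sp B g) {e : ℕ} (he : g ^ 2 ^ e = 1) (i : ℕ) :
    ∃ W : Submodule F V, W ≠ ⊥ ∧ Sub B g W ∧ GoodOn B g (g ^ (2 * i + 1)) W := by
  have : NeZero (2 ^ (e + 1)) := ⟨pow_ne_zero _ two_ne_zero⟩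
  have hN : g ^ 2 ^ (e + 1) = 1 := by rw [pow_succ, pow_mul, he, one_pow]
  let c : Multiplicative (ZMod (2 ^ (e + 1))) := Multiplicative.ofAdd 1
  have hc : ∀ x : Multiplicative (ZMod (2 ^ (e + 1))), x = c ^ x.toAdd.val := fun x => by
    rw [← ofAdd_nsmul, nsmul_one, ZMod.natCast_zmod_val, ofAdd_toAdd]
  have hcard : Nat.card (Multiplicative (ZMod (2 ^ (e + 1)))) = 2 ^ (e + 1) := by simp
  have hcop : (Nat.card (Multiplicative (ZMod (2 ^ (e + 1))))).Coprime (2 * i + 1) := by
    rw [hcard]
    exact Nat.Coprime.pow_left _ (Nat.coprime_two_left.2 ⟨i, rfl⟩)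
  let ρ : Multiplicative (ZMod (2 ^ (e + 1))) →* Module.End F V :=
    { toFun := fun x => g ^ x.toAdd.val
      map_one' := by simp
      map_mul' := fun x y => by
        rw [toAdd_mul, ZMod.val_add, ← pow_add, ← pow_eq_pow_mod _ hN] }
  refine exists_sub h c (fun x => ⟨_, hc x⟩) (e := e + 1) ((congrArg (c ^ ·) hcard).symm.trans pow_card_eq_one') i
    (MulEquiv.ofBijective (powMonoidHom (2 * i + 1)) (powCoprime hcop).bijective) rfl ρ ?_ fun x hx => ?_
  · change g ^ (1 : ZMod (2 ^ (e + 1))).val = g
    rw [ZMod.val_one_eq_one_mod, ← pow_eq_pow_mod _ hN, pow_one]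
  · change g ^ x.toAdd.val = 1
    have h1 : x.toAdd + x.toAdd = 0 := by
      rw [← toAdd_mul]
      nth_rw 1 [← hx]
      rw [inv_mul_cancel, toAdd_one]
    have h2 : 2 ^ (e + 1) ∣ x.toAdd.val + x.toAdd.val := by
      rw [← ZMod.natCast_eq_zero_iff, Nat.cast_add, ZMod.natCast_zmod_val, h1]
    generalize x.toAdd.val = a at h2
    rw [pow_succ', ← two_mul] at h2
    obtain ⟨d, hd⟩ := Nat.dvd_of_mul_dvd_mul_left two_pos h2
    rw [hd, pow_mul, he, one_pow]

universe u v

theorem good_unip_aux {F : Type u} [Field F] (e i : ℕ) (n : ℕ) :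
    ∀ (V : Type v) [AddCommGroup V] [Module F V] [FiniteDimensional F V] (B : LinearMap.BilinForm F V)
      (g : Module.End F V), finrank F V = n → Sp B g → g ^ 2 ^ e = 1 → Good B g (g ^ (2 * i + 1)) := by
  induction n using Nat.strong_induction_on with
  | _ n ih =>
    intro V _ _ _ B g hn h he
    rcases subsingleton_or_nontrivial V with hV | hV
    · exact ⟨1, fun _ _ => rfl, fun _ => Subsingleton.elim _ _⟩
    obtain ⟨W, h0, hW, h1⟩ := exists_sub' h he i
    have he' : g ^ (2 ^ e - 1 + 1) = 1 := by rwa [Nat.sub_add_cancel Nat.one_le_two_pow]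
    have hW' := hW.orth h he'
    refine glue h he' hW h1 (Good.on hW'.inv (ih _ ?_ _ _ _ rfl (h.restrict hW') (restrict_pow_eq_one _ he)))
    have h2 := Submodule.finrank_add_eq_of_isCompl (hW.isCompl h)
    have h3 : finrank F W ≠ 0 := fun h3 => h0 (Submodule.finrank_eq_zero.1 h3)
    omega

/-- **unipotent elements** -/
theorem good_unip [FiniteDimensional F V] (h : Sp B g) {e : ℕ} (he : g ^ 2 ^ e = 1) {k : ℕ} (hk : Odd k) :
    Good B g (g ^ k) := by
  obtain ⟨i, rfl⟩ := hk
  exact good_unip_aux e i _ V B g rfl h he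

end Cfsg.Agent.ODD.Sp2
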